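import Cfsg.Agent.H893.RM.TwT
import Cfsg.Agent.H752.EP.RkAut
import Cfsg.Agent.S2128
import Cfsg.Agent.H270.EP.TwoF

/-!
# S3499, `²F₄(q)`: the ranks for odd primes (helper270)

* `prankLE_two` : every elementary abelian `r`-subgroup of `²F₄(q)`, `r` odd, has order at most `r ^ 2`.
-/

set_option autoImplicit false
set_option linter.unusedSectionVars false

namespace Cfsg.Agent.H270.EPU

open CoxeterSystem Cfsg Cfsg.Lie Cfsg.Lie.ChevalleyDatum
open Cfsg.Agent.ChevalleyStructure Cfsg.Agent.ChevalleyStructure.Elts Cfsg.Agent.ChevalleyStructure.CoxeterGeom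
  Cfsg.Agent.ChevalleyStructure.CoxeterGeomTypes Cfsg.Agent.ChevalleyStructure.NPerm
  Cfsg.Agent.ChevalleyStructure.RootVec
open Cfsg.Agent.Tits.Roots Cfsg.Agent.Tits.Core Cfsg.Agent.Nodes Cfsg.Agent.Nodes.Reps Cfsg.Agent.Nodes.BNOf
  Cfsg.Agent.Nodes.RGDChev
open Cfsg.Agent.KFacts.RgdField Cfsg.Agent.KFacts.RgdChevCoord Cfsg.Agent.BpExc.TorCent Cfsg.Agent.BpExc.TorChev
open Cfsg.Agent.GpExc.Field Cfsg.Agent.BpExc.Tow Cfsg.Agent.BpExc.TowChev
  Cfsg.Agent.BpExc.LangFr Cfsg.Agent.BpExc Cfsg.Agent.H129.TorusChar Cfsg.Agent.H129.TorusUntw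
open Cfsg.Agent.H493.F4End Cfsg.Agent.H493.F4Tor Cfsg.Agent.H129.WData
open Cfsg.Agent.H630.NH Cfsg.Agent.H630.Exc Cfsg.Agent.H759.TwF Cfsg.Agent.H893.RM.TwT

universe u v

theorem pRankLE_one {G : Type*} [Group G] [Finite G] {a : G} {N : ℕ} (h' : ∀ i : ℕ, a ^ i = 1 → N ∣ i)
    {p : ℕ} (hp : p.Prime) (hidx : ∀ T : Subgroup G, N ^ 1 ∣ Nat.card T → ¬ p ∣ T.index) : PRankLE p 2 G := by
  refine Cfsg.Agent.PreUniq.LowExc.pRankLE_of_not_dvd hp (hidx (Subgroup.zpowers a) ?_) fun B hB hBe => ?_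
  · rw [pow_one, Nat.card_zpowers]
    exact h' _ (pow_orderOf_eq_one a)
  · let g : B → {x : Subgroup.zpowers a // x ^ p = 1} := fun x => ⟨⟨x, hB x.2⟩, by
      apply Subtype.ext
      rw [Subgroup.coe_pow]
      exact hBe.2 x x.2⟩
    have hgi : Function.Injective g := fun x y hxy => by
      apply Subtype.ext
      exact congrArg (fun z : {x : Subgroup.zpowers a // x ^ p = 1} => ((z : Subgroup.zpowers a) : G)) hxy
    have h3 := Nat.card_le_card_of_injective g hgi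
    exact h3.trans ((card_tors_le hp.pos).trans (Nat.le_self_pow (by norm_num) _))

variable {K : Type u} [Field K] [Fintype K] {m : ℕ} (hK : Fintype.card K = 2 ^ (2 * m + 1))

include hK

/-- the data of the torus, rank 1 -/
theorem exists_a {d : TD} (hd : OkT d) {a : Fin 7} (ha : NN a = d.N) {c : Fin 4 → P} {U : Fin 4} {v : P}
    {κ E : ℕ} (hO : OkO d c U v κ E) :
    ∃ (y : ↥(twistedF4 K (2 ^ m))) (N : ℕ), pe (2 ^ m) d.N = N ∧ ∀ i : ℕ, y ^ i = 1 → N ∣ i := by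
  classical
  have : Fact (Nat.Prime 2) := ⟨Nat.prime_two⟩
  have hc2 : CharP K 2 := F4Fixed.charP_two hK
  obtain ⟨p, e, hpF, hpc, hpk, he, hpe, hk⟩ := exists_closure hK
  have hp2 : p = 2 := CharP.eq K hpc hc2
  subst hp2
  let k := AlgebraicClosure K
  let f : K →+* k := algebraMap K k
  let cs := CoxeterMatrix.F₄.toCoxeterSystem
  have hW : Finite CoxeterMatrix.F₄.Group := H493.PGF4.finW
  have hN : NSys CoxeterMatrix.F₄ (TT chevF4 k) (nc hp k) := nsys_of_locFin hp cs hk 2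
  obtain ⟨n, hn⟩ := exists_rp cs hN (TD.w cs d)
  obtain ⟨z, hz⟩ := H493.F4Lang.lang_ste m n
  have hpos := NN_pos m a
  have hodd := odd_NN (2 ^ m) a
  obtain ⟨N, hNe⟩ := Int.eq_ofNat_of_zero_le hpos.le
  have hNk : (N : k) ≠ 0 := odd_cast hNe
  rw [ha] at hNe hodd
  have key : IsCoprime (N : ℤ) (Lc (2 ^ m) d.Q c (sr U)) := by
    have h1 := pe_of_peq (2 ^ m) hO
    rw [pe_pa, pe_pm, pe_p4, pe_pmo] at h1
    rw [← hNe]
    refine coprime_pow (m := m) hodd (v := pe (2 ^ m) v) (k := κ) (E := E) ?_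
    rw [Lc_apply, ← h1]
    simp only [Mh_sr, pe_pm]
  have hN0 : N ≠ 0 := by rintro rfl; exact hNk Nat.cast_zero
  have : NeZero (N : k) := ⟨hNk⟩
  obtain ⟨ζ, hζ⟩ := HasEnoughRootsOfUnity.exists_primitiveRoot k N
  obtain ⟨y, hy, hyN, hyc⟩ := exists_el hK f hk cs hn hz hζ hN0 (Lc (2 ^ m) d.Q c)
    (fun x => by rw [← hNe]; exact Lc_adapted cs hd.1 hd.2.1 _ c x)
  refine ⟨y, N, hNe, ?_⟩
  intro i hi
  have h1 : y ^ (i : ℤ) = 1 := by rw [zpow_natCast]; exact hi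
  have h2 := hyc i (sr U)
  rw [h1, map_one, mul_one, inv_mul_cancel, cX_one] at h2
  exact Int.natCast_dvd_natCast.1 (key.dvd_of_dvd_mul_right ((hζ.zpow_eq_one_iff_dvd _).1 h2.symm))

theorem prankLE1 {d : TD} (hd : OkT d) {a : Fin 7} (ha : NN a = d.N) (hrk : rk a = 1) {c : Fin 4 → P}
    {U : Fin 4} {v : P} {κ E : ℕ} (hO : OkO d c U v κ E) {r : ℕ}
    (hr : r.Prime) (hr2 : r ≠ 2) (hr3 : r ≠ 3) (hrN : (r : ℤ) ∣ pe (2 ^ m) (NN a)) :
    PRankLE r 2 ↥(twistedF4 K (2 ^ m)) := by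
  have hfin : Finite ↥(twistedF4 K (2 ^ m)) := by
    have := F4Fixed.charP_two hK
    exact H42.Tw.finite_tw (K := K) (2 ^ m)
  obtain ⟨y, N, hNe, h2⟩ := exists_a hK hd ha hO
  refine pRankLE_one h2 hr fun T hT => ?_
  refine not_dvd_index hK hr hr2 hr3 hrN T ?_
  rw [hrk, ha, hNe]
  exact_mod_cast Int.natCast_dvd_natCast.2 hT

/-- **the ranks** of the primes at least 5 -/
theorem prankLE_five {r : ℕ} (hr : r.Prime) (hr2 : r ≠ 2) (hr3 : r ≠ 3) : PRankLE r 2 ↥(twistedF4 K (2 ^ m)) := by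
  have hfin : Finite ↥(twistedF4 K (2 ^ m)) := by
    have := F4Fixed.charP_two hK
    exact H42.Tw.finite_tw (K := K) (2 ^ m)
  by_cases hrd : r ∣ Nat.card ↥(twistedF4 K (2 ^ m))
  · obtain ⟨a, hrN⟩ := exists_type hK hr hr2 hrd
    fin_cases a
    · exact prankLE' hK okT_A (a := 0) rfl rfl okO_A okO2_A okZ_A hr hr2 hr3 hrN
    · exact prankLE' hK okT_B (a := 1) rfl rfl okO_B okO2_B okZ_B hr hr2 hr3 hrN
    · exact prankLE' hK okT_Cp (a := 2) rfl rfl okO_Cp okO2_Cp okZ_Cp hr hr2 hr3 hrN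
    · exact prankLE' hK okT_Cm (a := 3) rfl rfl okO_Cm okO2_Cm okZ_Cm hr hr2 hr3 hrN
    · exact prankLE1 hK okT_D (a := 4) rfl rfl okO_D hr hr2 hr3 hrN
    · exact prankLE1 hK okT_Ep (a := 5) rfl rfl okO_Ep hr hr2 hr3 hrN
    · exact prankLE1 hK okT_Em (a := 6) rfl rfl okO_Em hr hr2 hr3 hrN
  · refine pRankLE_one (a := 1) (N := 1) (fun i _ => one_dvd i) hr fun T _ h => hrd ?_
    exact h.trans T.index_dvd_card

end Cfsg.Agent.H270.EPU
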