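import Cfsg.Agent.H752.EP.OwnRankB
import Cfsg.Agent.H752.EP.RkAut
import Cfsg.Agent.H752.EP.TIPars
import Cfsg.Agent.H270.EP.TwoF
import Cfsg.Agent.H270.EPU.Rank
import Cfsg.Agent.H240.GenTwF.TwFEmb
import Cfsg.Agent.H565.TwF4Rank

/-!
# S3499, dimension at least 13: large Ree groups `²F₄(q)`, `q > 2`, in their own characteristic (helper270)

`card_le_twF4`: `|Q| ≤ |A| ^ 5`, `own_twF4` : `²F₄(q)` does not occur. The canonical parabolic subgroups are a
hypothesis `Pars 2 (²F₄(q)) 𝓟`.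
-/

set_option autoImplicit false
set_option linter.unusedSectionVars false

namespace Cfsg.Agent.H270.EPU

open Cfsg Matrix Subgroup Cfsg.Agent.H284 Cfsg.Agent.H59.EP Cfsg.Agent.H12.EP.BT Cfsg.Agent.H419.EP Cfsg.Agent.H752.EP
open Cfsg.Geo Cfsg.Agent.H915.LD

universe u v w

/-- transport of the canonical parabolic subgroups -/
theorem pars_of_equiv {p : ℕ} {Y : Type u} {Z : Type v} [Group Y] [Finite Y] [Group Z] (e : Y ≃* Z)
    {𝓟 : Set (Subgroup Y)} (h : Pars p Y 𝓟) : Pars p Z ((fun P : Subgroup Y => P.map e.toMonoidHom) '' 𝓟) := by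
  have hfin : Finite Z := Finite.of_equiv _ e.toEquiv
  refine ⟨?_, ?_, ?_⟩
  · rw [← Nat.card_congr e.toEquiv]
    exact (Set.ncard_image_le (Set.toFinite _)).trans h.card_le
  · rintro _ ⟨P, hP, rfl⟩ ht
    apply h.ne_top P hP
    have ht' : P.map e.toMonoidHom = ⊤ := ht
    rw [Subgroup.eq_top_iff']
    intro y
    have h1 : e y ∈ P.map e.toMonoidHom := by rw [ht']; exact mem_top _
    obtain ⟨z, hz, h2⟩ := h1
    have h3 : z = y := e.injective h2
    rwa [← h3]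
  · intro K N₀ hNK hn hp h1
    have hmem : ∀ (H : Subgroup Z) (y : Y), y ∈ H.comap e.toMonoidHom ↔ e y ∈ H := fun H y => Iff.rfl
    obtain ⟨P, hP, h2, h3⟩ := h.exists_mem (K.comap e.toMonoidHom) (N₀.comap e.toMonoidHom) (Subgroup.comap_mono hNK)
      (fun k hk v hv => by
        rw [hmem] at hk hv ⊢
        rw [map_mul, map_mul, map_inv]
        exact hn _ hk _ hv)
      (hp.comap_of_injective _ e.injective) (by
        intro h4
        apply h1
        rw [Subgroup.eq_bot_iff_forall] at h4 ⊢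
        intro x hx
        have h5 := h4 (e.symm x) (by rw [hmem, e.apply_symm_apply]; exact hx)
        exact (MulEquiv.map_eq_one_iff e.symm).1 h5)
    refine ⟨_, ⟨P, hP, rfl⟩, ?_, ?_⟩
    · intro k hk
      exact ⟨e.symm k, h2 (by rw [hmem, e.apply_symm_apply]; exact hk), e.apply_symm_apply k⟩
    · rintro φ hφ _ ⟨x, hx, rfl⟩
      let ψ : MulAut Y := (e.trans φ).trans e.symm
      refine ⟨ψ x, h3 ψ (fun k hk => ?_) x hx, e.apply_symm_apply _⟩
      rw [hmem] at hk ⊢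
      show e (e.symm (φ (e k))) ∈ K
      rw [e.apply_symm_apply]
      exact hφ _ hk

theorem lieSoc_of_pars {p : ℕ} {Q : Type u} [Group Q] [Finite Q] {A : Subgroup Q} {L : Type v} [Group L]
    (hsoc : HasSoc A L) (hL : IsSimpleGroup L) (hLn : ¬ ∀ a b : L, a * b = b * a)
    (hP : ∃ 𝓟 : Set (Subgroup L), Pars p L 𝓟) :
    ∃ N : Subgroup Q, LieSoc p A N ∧ Nonempty (N ≃* L) := by
  obtain ⟨N, h1, h2, h3, ⟨e⟩⟩ := hsoc
  obtain ⟨𝓟, hP⟩ := hP
  have hLfin : Finite L := Finite.of_equiv _ e.toEquiv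
  have hNs : IsSimpleGroup N := e.isSimpleGroup
  refine ⟨N, ⟨h1, h2, h3, hNs, ?_, ⟨_, pars_of_equiv e.symm hP⟩⟩, ⟨e⟩⟩
  intro h
  apply hLn
  intro a b
  have h4 := h (e.symm a) (e.symm a).2 (e.symm b) (e.symm b).2
  have h5 : e.symm a * e.symm b = e.symm b * e.symm a := Subtype.ext h4
  apply e.symm.injective
  rw [map_mul, map_mul, h5]

section twf

variable {K : Type} [Field K] [Fintype K] {l : ℕ}

theorem srank_twF4 (hK : Fintype.card K = 2 ^ (2 * l + 1)) {s : ℕ} (hs : s.Prime) (h2 : s ≠ 2) :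
    SRank ↥(Lie.twistedF4 K (2 ^ l)) s 2 := by
  have hfin : Finite ↥(Lie.twistedF4 K (2 ^ l)) := by
    have := Cfsg.Agent.ChevalleyStructure.TwF4.Twisted.charP_two hK
    exact H42.Tw.finite_tw (K := K) (2 ^ l)
  have hr : PRankLE s 2 ↥(Lie.twistedF4 K (2 ^ l)) := by
    by_cases h3 : s = 3
    · subst h3
      exact H565.F4R.prankLE_three_twF4 hK
    · exact prankLE_five hK hs h2 h3
  intro X h1 h2
  exact ⟨Nat.card_pos.ne', hr X ⟨⟨fun a b => Subtype.ext (h1 a a.2 b b.2)⟩⟩ h2⟩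

/-- the rank of the automorphism group -/
theorem srank_aut_twF4 (hl : 1 ≤ l) (hK : Fintype.card K = 2 ^ (2 * l + 1))
    (hL : IsSimpleGroup ↥(Lie.twistedF4 K (2 ^ l))) (hLn : ¬ ∀ a b : ↥(Lie.twistedF4 K (2 ^ l)), a * b = b * a)
    {s : ℕ} (hs : s.Prime) (h2 : s ≠ 2) : SRank (MulAut ↥(Lie.twistedF4 K (2 ^ l))) s 3 := by
  have hfin : Finite ↥(Lie.twistedF4 K (2 ^ l)) := by
    have := Cfsg.Agent.ChevalleyStructure.TwF4.Twisted.charP_two hK
    exact H42.Tw.finite_tw (K := K) (2 ^ l)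
  have hZ : center ↥(Lie.twistedF4 K (2 ^ l)) = ⊥ := by
    rcases (inferInstance : (center ↥(Lie.twistedF4 K (2 ^ l))).Normal).eq_bot_or_eq_top with h | h
    · exact h
    · exfalso
      apply hLn
      intro a b
      have h3 : b ∈ center ↥(Lie.twistedF4 K (2 ^ l)) := by rw [h]; exact mem_top _
      exact mem_center_iff.1 h3 a
  exact srank_aut hZ (H240.GenTwF.out_cyclic hl hK) hs.pos (srank_twF4 hK hs h2)

/-- `|Q| ≤ |A| ^ 5` -/
theorem card_le_twF4 {Q : Type u} [Group Q] [Finite Q] {A : Subgroup Q} {Γ : Subgroup (MulAut Q)}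
    (hs : IsSimpleGroup Q) (h : EPT A Γ) (hg : TwoGen.{u}) (hl : 1 ≤ l)
    (hK : Fintype.card K = 2 ^ (2 * l + 1)) (hL : IsSimpleGroup ↥(Lie.twistedF4 K (2 ^ l)))
    (hLn : ¬ ∀ a b : ↥(Lie.twistedF4 K (2 ^ l)), a * b = b * a)
    (hsoc : HasSoc A ↥(Lie.twistedF4 K (2 ^ l)))
    (hP : ∃ 𝓟 : Set (Subgroup ↥(Lie.twistedF4 K (2 ^ l))), Pars 2 ↥(Lie.twistedF4 K (2 ^ l)) 𝓟) :
    Nat.card Q ≤ Nat.card A ^ 5 := by
  have h2p : Fact (Nat.Prime 2) := ⟨Nat.prime_two⟩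
  obtain ⟨N, hS, ⟨e⟩⟩ := lieSoc_of_pars hsoc hL hLn hP
  exact card_le_rank_d hs h hg hS (hout_of_cyc hS e (H240.GenTwF.out_cyclic hl hK)) (k := 3) le_rfl
    (fun s hs hs2 => (srank_aut_twF4 hl hK hL hLn hs hs2).of_hasSoc hsoc)
    (fun s hs hs5 => ((srank_aut_twF4 hl hK hL hLn hs (by omega)).of_hasSoc hsoc).mono hs.pos (by norm_num))

end twf

/-- **Large Ree groups `²F₄(q)`, `q > 2`, own characteristic, dimension at least 13.** -/
theorem own_twF4' {Q : Type} [Group Q] [Finite Q] {A : Subgroup Q} {Γ : Subgroup (MulAut Q)} {ι : Type} [Fintype ι]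
    [DecidableEq ι] {F : Type} [Field F] [Fintype F] {S P : Subgroup (GL ι F)} (b : Big A Γ S P) (hg : TwoGen.{0})
    (hc : ringChar F = 2) (h : Lie.Iso2F4 (socle P))
    (hP : ∀ (K : Type) [Field K] [Fintype K] (l : ℕ), 1 ≤ l → Fintype.card K = 2 ^ (2 * l + 1) →
      ∃ 𝓟 : Set (Subgroup ↥(Lie.twistedF4 K (2 ^ l))), Pars 2 ↥(Lie.twistedF4 K (2 ^ l)) 𝓟) : False := by
  obtain ⟨K, _, _, l, hl, hK, ⟨e⟩⟩ := id h
  have hsoc : IsSimpleGroup (socle P) := b.core.simple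
  have hL : IsSimpleGroup ↥(Lie.twistedF4 K (2 ^ l)) := e.symm.isSimpleGroup
  have hLn : ¬ ∀ a b : ↥(Lie.twistedF4 K (2 ^ l)), a * b = b * a := by
    intro h1
    apply b.core.nonabelian
    refine ⟨⟨fun x y => e.injective ?_⟩⟩
    rw [map_mul, map_mul]
    exact h1 _ _
  exact H270.EP.own_2f4 b le_rfl (card_le_twF4 b.simple b.ept hg hl hK hL hLn (b.hasSoc' e) (hP K l hl hK)) hc h

end Cfsg.Agent.H270.EPU
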