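import Cfsg.Agent.H270.EPU.Par
import Cfsg.Agent.H270.EPU.Glue
import Cfsg.Agent.H60.HerTwF4

/-!
# S3499, dimension at least 13: `²F₄(q)`, `q > 2`, own characteristic (helper270)

`own_twF4` : no hypothesis.
-/

set_option autoImplicit false
set_option linter.unusedSectionVars false

namespace Cfsg.Agent.H270.EPU

open Cfsg Matrix Subgroup Cfsg.Agent.H284 Cfsg.Agent.H59.EP Cfsg.Agent.H12.EP.BT Cfsg.Agent.H419.EP
open Cfsg.Geo

universe u

/-- **the canonical parabolic subgroups of `²F₄(q)`** -/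
theorem exists_pars_twF4 {Y : Type u} [Group Y] [Finite Y] (h : Lie.Iso2F4 Y) (hs : IsSimpleGroup Y)
    (hna : ¬ ∀ a b : Y, a * b = b * a) : ∃ 𝓟 : Set (Subgroup Y), Pars 2 Y 𝓟 := by
  have : Fact (Nat.Prime 2) := ⟨Nat.prime_two⟩
  have hc : center Y = ⊥ := by
    rcases (inferInstance : (center Y).Normal).eq_bot_or_eq_top with h1 | h1
    · exact h1
    · exfalso
      apply hna
      intro a b
      have h3 : b ∈ center Y := by rw [h1]; exact mem_top _
      exact mem_center_iff.1 h3 a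
  have hk : (MonoidHom.id Y).ker = ⊥ := MonoidHom.ker_id
  obtain ⟨M, -, ⟨W, C, i1, cs, i2, i3, Δ, i4, hth, ⟨S⟩⟩, -⟩ := H60.HerTwF4.sys_twF4 h (MonoidHom.id Y) (by rw [hk, hc])
    (by rw [hk, Subgroup.card_bot]; exact Nat.coprime_one_left 2) Function.surjective_id
  have : Finite C := inferInstance
  exact exists_pars_sys S hth hs hna

/-- **Large Ree groups `²F₄(q)`, `q > 2`, own characteristic, dimension at least 13.** -/
theorem own_twF4 {Q : Type} [Group Q] [Finite Q] {A : Subgroup Q} {Γ : Subgroup (MulAut Q)} {ι : Type} [Fintype ι]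
    [DecidableEq ι] {F : Type} [Field F] [Fintype F] {S P : Subgroup (GL ι F)} (b : Big A Γ S P) (hg : TwoGen.{0})
    (hc : ringChar F = 2) (h : Lie.Iso2F4 (socle P)) : False := by
  obtain ⟨K, _, _, l, hl, hK, ⟨e⟩⟩ := id h
  have hfin := H270.EP.finite_socle P
  have hna : ¬ ∀ a b : socle P, a * b = b * a := fun h1 => b.core.nonabelian ⟨⟨h1⟩⟩
  obtain ⟨𝓟, hP⟩ := exists_pars_twF4 h b.core.simple hna
  have hL : IsSimpleGroup ↥(Lie.twistedF4 K (2 ^ l)) := by
    have := b.core.simple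
    exact e.symm.isSimpleGroup
  have hLn : ¬ ∀ a b : ↥(Lie.twistedF4 K (2 ^ l)), a * b = b * a := by
    intro h1
    apply hna
    intro x y
    apply e.injective
    rw [map_mul, map_mul]
    exact h1 _ _
  exact H270.EP.own_2f4 b le_rfl
    (card_le_twF4 b.simple b.ept hg hl hK hL hLn (b.hasSoc' e) ⟨_, pars_of_equiv e hP⟩) hc h

end Cfsg.Agent.H270.EPU
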